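import Cfsg.Agent.Chev.F4Check

/-!
An element of the Weyl group of type F₄ with trivial sixth power satisfies one of two relations
of degree four, so that it has no eigenvalue of order six or none of order three.
-/

set_option autoImplicit false

namespace CfsgLib.Chev.F4Graph

open Cfsg.Lie CfsgLib.Chev.F4Check

/-- The relation without roots of order six. -/
def relA (w : List ℕ) : Bool :=
  (List.range 4).all fun j => (List.range 4).all fun i =>
    decide (F4Data.tab.cart i (iterTbl tbl w 4 (chevF4.simple j)) +
        F4Data.tab.cart i (iterTbl tbl w 3 (chevF4.simple j)) =
      F4Data.tab.cart i (iterTbl tbl w 1 (chevF4.simple j)) +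
        F4Data.tab.cart i (chevF4.simple j))

/-- The relation without roots of order three. -/
def relB (w : List ℕ) : Bool :=
  (List.range 4).all fun j => (List.range 4).all fun i =>
    decide (F4Data.tab.cart i (iterTbl tbl w 4 (chevF4.simple j)) +
        F4Data.tab.cart i (iterTbl tbl w 1 (chevF4.simple j)) =
      F4Data.tab.cart i (iterTbl tbl w 3 (chevF4.simple j)) +
        F4Data.tab.cart i (chevF4.simple j))

/-- The property checked on all products. -/
def chkRel (w : List ℕ) : Bool := !(fixesSimple w 6) || relA w || relB w

set_option linter.style.maxHeartbeats false in
theorem rel_ok : (wordsOf chain).all chkRel = true := by decide +kernel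

end CfsgLib.Chev.F4Graph
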