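import Cfsg.Agent.Chev.GoodAll
import Cfsg.Agent.Chev.FieldFix
import Cfsg.Agent.Chev.RootMap
import Cfsg.Agent.Chev.ToralChev
import Mathlib.GroupTheory.OrderOfElement
import Mathlib.Algebra.CharP.Two

/-!
Cross-sections in the subsystems `A₁` and `C₃` of F₄ in characteristic two, with their action on
short root vectors.
-/

set_option autoImplicit false

namespace CfsgLib.Chev.F4Graph

open Cfsg.Lie Matrix Tab

/-- Root `r` sends the root vector `s` to itself plus at most one linear term. -/
def chkCol (r s : ℕ) (tgt : Option ℕ) : Bool :=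
  !(Nat.beq s r) && !(Nat.beq s (chevF4.negIdx.getD r 0)) &&
    allBelow (fun u => decide (((chevF4.chainCoeff r s u).filter fun km => km.2 % 2 != 0).map
      Prod.fst = if tgt = some u then [1] else [])) 48

variable {K : Type*} [Field K] [CharP K 2]

theorem parity_sum (l : List (ℕ × ℤ)) (t : K) :
    (l.map fun km => ((km.2 : ℤ) : K) * t ^ km.1).sum =
      (((l.filter fun km => km.2 % 2 != 0).map Prod.fst).map fun k => t ^ k).sum := by
  induction l with
  | nil => simp
  | cons a l ih =>
    rcases Int.emod_two_eq_zero_or_one a.2 with h | h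
    · have e : ((a.2 : ℤ) : K) = 0 := (CharP.intCast_eq_zero_iff K 2 _).mpr (by omega)
      rw [List.filter_cons_of_neg (by simp [h]), List.map_cons, List.sum_cons, e, ih]
      simp
    · have e : ((a.2 : ℤ) : K) = 1 := by
        rw [show a.2 = 2 * (a.2 / 2) + 1 by omega, Int.cast_add, Int.cast_mul, Int.cast_one,
          show ((2 : ℤ) : K) = 0 from (CharP.intCast_eq_zero_iff K 2 _).mpr (dvd_refl _), zero_mul,
          zero_add]
      rw [List.filter_cons_of_pos (by simp [h]), List.map_cons, List.sum_cons, e, ih]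
      simp

/-- A root vector. -/
def ev (K : Type*) [Field K] (s : Fin chevF4.nroots) : chevF4.Idx → K := Pi.single (Sum.inr s) 1

/-- The root element in the group. -/
def xe {K : Type*} [Field K] (r : ℕ) (t : K) : chevF4.group K :=
  ⟨good_F4.full.x r t, good_F4.x_mem_group r t⟩

/-- The matrix of a group element. -/
def mat {K : Type*} [Field K] : chevF4.group K →* Matrix chevF4.Idx chevF4.Idx K :=
  (Units.coeHom _).comp (chevF4.group K).subtype

theorem col_some {r : ℕ} (hr : r < 48) {s u : Fin chevF4.nroots}
    (h : chkCol r s.val (some u.val) = true) (t : K) :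
    mat (xe r t) *ᵥ ev K s = ev K s + t • ev K u := by
  simp only [chkCol, Bool.and_eq_true, Bool.not_eq_true', allBelow_iff, decide_eq_true_eq] at h
  obtain ⟨⟨hs, hn⟩, hu⟩ := h
  have hs' : s ≠ (⟨r, hr⟩ : Fin chevF4.nroots) := fun e => by simp [e] at hs
  have hn' : s.val ≠ chevF4.negIdx.getD r 0 := fun e => by rw [← e, Nat.beq_refl] at hn; exact Bool.noConfusion hn
  have hm : mat (xe r t) = chevF4.xMat K ⟨r, hr⟩ t := by
    show ((good_F4.full.x r t : GL chevF4.Idx K) : Matrix chevF4.Idx chevF4.Idx K) = _
    rw [good_F4.full.coe_x', ChevalleyDatum.x, dif_pos (show r < chevF4.nroots from hr)]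
  funext row
  rw [hm, ev, mulVec_single_one, col_apply, Pi.add_apply, Pi.smul_apply, smul_eq_mul,
    ChevalleyDatum.xMat, of_apply]
  simp only [if_neg hs', if_neg hn']
  rcases row with i | v
  · simp [ev]
  · simp only [parity_sum, hu v.val v.isLt, ev, Pi.single_apply, Sum.inr.injEq]
    by_cases hv : v = u
    · subst hv
      simp
    · rw [if_neg (fun e => hv (Fin.ext (Option.some.inj e).symm)), if_neg hv]
      simp

theorem col_none {r : ℕ} (hr : r < 48) {s : Fin chevF4.nroots}
    (h : chkCol r s.val none = true) (t : K) : mat (xe r t) *ᵥ ev K s = ev K s := by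
  simp only [chkCol, Bool.and_eq_true, Bool.not_eq_true', allBelow_iff, decide_eq_true_eq] at h
  obtain ⟨⟨hs, hn⟩, hu⟩ := h
  have hs' : s ≠ (⟨r, hr⟩ : Fin chevF4.nroots) := fun e => by simp [e] at hs
  have hn' : s.val ≠ chevF4.negIdx.getD r 0 := fun e => by rw [← e, Nat.beq_refl] at hn; exact Bool.noConfusion hn
  have hm : mat (xe r t) = chevF4.xMat K ⟨r, hr⟩ t := by
    show ((good_F4.full.x r t : GL chevF4.Idx K) : Matrix chevF4.Idx chevF4.Idx K) = _
    rw [good_F4.full.coe_x', ChevalleyDatum.x, dif_pos (show r < chevF4.nroots from hr)]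
  funext row
  rw [hm, ev, mulVec_single_one, col_apply, ChevalleyDatum.xMat, of_apply]
  simp only [if_neg hs', if_neg hn']
  rcases row with i | v
  · simp
  · simp [parity_sum, hu v.val v.isLt, Pi.single_apply]

/-- The short root vectors of the six-dimensional module. -/
def six : Fin 6 → Fin chevF4.nroots :=
  ![⟨29, by decide⟩, ⟨36, by decide⟩, ⟨38, by decide⟩, ⟨39, by decide⟩, ⟨40, by decide⟩, ⟨44, by decide⟩]

/-- The short root vectors of the two-dimensional module. -/
def two : Fin 2 → Fin chevF4.nroots := ![⟨29, by decide⟩, ⟨3, by decide⟩]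

/-- A vector of the six-dimensional module. -/
def emb6 (w : Fin 6 → K) : chevF4.Idx → K :=
  w 0 • ev K (six 0) + w 1 • ev K (six 1) + w 2 • ev K (six 2) + w 3 • ev K (six 3) +
    w 4 • ev K (six 4) + w 5 • ev K (six 5)

/-- A vector of the two-dimensional module. -/
def emb2 (w : Fin 2 → K) : chevF4.Idx → K := w 0 • ev K (two 0) + w 1 • ev K (two 1)

theorem act33 (t : K) (w : Fin 6 → K) : mat (xe 33 t) *ᵥ emb6 w =
    emb6 ![w 0, w 1 + t * w 0, w 2, w 3, w 4, w 5 + t * w 4] := by
  simp only [emb6, mulVec_add, mulVec_smul,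
    col_some (r := 33) (by norm_num) (s := six 0) (u := six 1) (by decide +kernel),
    col_none (r := 33) (by norm_num) (s := six 1) (by decide +kernel),
    col_none (r := 33) (by norm_num) (s := six 2) (by decide +kernel),
    col_none (r := 33) (by norm_num) (s := six 3) (by decide +kernel),
    col_some (r := 33) (by norm_num) (s := six 4) (u := six 5) (by decide +kernel),
    col_none (r := 33) (by norm_num) (s := six 5) (by decide +kernel)]
  simp only [cons_val_zero, cons_val_one, cons_val]
  module

theorem act14 (t : K) (w : Fin 6 → K) : mat (xe 14 t) *ᵥ emb6 w =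
    emb6 ![w 0 + t * w 1, w 1, w 2, w 3, w 4 + t * w 5, w 5] := by
  simp only [emb6, mulVec_add, mulVec_smul,
    col_none (r := 14) (by norm_num) (s := six 0) (by decide +kernel),
    col_some (r := 14) (by norm_num) (s := six 1) (u := six 0) (by decide +kernel),
    col_none (r := 14) (by norm_num) (s := six 2) (by decide +kernel),
    col_none (r := 14) (by norm_num) (s := six 3) (by decide +kernel),
    col_none (r := 14) (by norm_num) (s := six 4) (by decide +kernel),
    col_some (r := 14) (by norm_num) (s := six 5) (u := six 4) (by decide +kernel)]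
  simp only [cons_val_zero, cons_val_one, cons_val]
  module

theorem act27 (t : K) (w : Fin 6 → K) : mat (xe 27 t) *ᵥ emb6 w =
    emb6 ![w 0, w 1, w 2 + t * w 1, w 3, w 4 + t * w 3, w 5] := by
  simp only [emb6, mulVec_add, mulVec_smul,
    col_none (r := 27) (by norm_num) (s := six 0) (by decide +kernel),
    col_some (r := 27) (by norm_num) (s := six 1) (u := six 2) (by decide +kernel),
    col_none (r := 27) (by norm_num) (s := six 2) (by decide +kernel),
    col_some (r := 27) (by norm_num) (s := six 3) (u := six 4) (by decide +kernel),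
    col_none (r := 27) (by norm_num) (s := six 4) (by decide +kernel),
    col_none (r := 27) (by norm_num) (s := six 5) (by decide +kernel)]
  simp only [cons_val_zero, cons_val_one, cons_val]
  module

theorem act20 (t : K) (w : Fin 6 → K) : mat (xe 20 t) *ᵥ emb6 w =
    emb6 ![w 0, w 1 + t * w 2, w 2, w 3 + t * w 4, w 4, w 5] := by
  simp only [emb6, mulVec_add, mulVec_smul,
    col_none (r := 20) (by norm_num) (s := six 0) (by decide +kernel),
    col_none (r := 20) (by norm_num) (s := six 1) (by decide +kernel),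
    col_some (r := 20) (by norm_num) (s := six 2) (u := six 1) (by decide +kernel),
    col_none (r := 20) (by norm_num) (s := six 3) (by decide +kernel),
    col_some (r := 20) (by norm_num) (s := six 4) (u := six 3) (by decide +kernel),
    col_none (r := 20) (by norm_num) (s := six 5) (by decide +kernel)]
  simp only [cons_val_zero, cons_val_one, cons_val]
  module

theorem act25 (t : K) (w : Fin 6 → K) : mat (xe 25 t) *ᵥ emb6 w =
    emb6 ![w 0, w 1, w 2, w 3 + t * w 2, w 4, w 5] := by
  simp only [emb6, mulVec_add, mulVec_smul,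
    col_none (r := 25) (by norm_num) (s := six 0) (by decide +kernel),
    col_none (r := 25) (by norm_num) (s := six 1) (by decide +kernel),
    col_some (r := 25) (by norm_num) (s := six 2) (u := six 3) (by decide +kernel),
    col_none (r := 25) (by norm_num) (s := six 3) (by decide +kernel),
    col_none (r := 25) (by norm_num) (s := six 4) (by decide +kernel),
    col_none (r := 25) (by norm_num) (s := six 5) (by decide +kernel)]
  simp only [cons_val_zero, cons_val_one, cons_val]
  module

theorem act22 (t : K) (w : Fin 6 → K) : mat (xe 22 t) *ᵥ emb6 w =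
    emb6 ![w 0, w 1, w 2 + t * w 3, w 3, w 4, w 5] := by
  simp only [emb6, mulVec_add, mulVec_smul,
    col_none (r := 22) (by norm_num) (s := six 0) (by decide +kernel),
    col_none (r := 22) (by norm_num) (s := six 1) (by decide +kernel),
    col_none (r := 22) (by norm_num) (s := six 2) (by decide +kernel),
    col_some (r := 22) (by norm_num) (s := six 3) (u := six 2) (by decide +kernel),
    col_none (r := 22) (by norm_num) (s := six 4) (by decide +kernel),
    col_none (r := 22) (by norm_num) (s := six 5) (by decide +kernel)]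
  simp only [cons_val_zero, cons_val_one, cons_val]
  module

theorem act47 (t : K) (w : Fin 2 → K) : mat (xe 47 t) *ᵥ emb2 w =
    emb2 ![w 0 + t * w 1, w 1] := by
  simp only [emb2, mulVec_add, mulVec_smul,
    col_none (r := 47) (by norm_num) (s := two 0) (by decide +kernel),
    col_some (r := 47) (by norm_num) (s := two 1) (u := two 0) (by decide +kernel)]
  simp only [cons_val_zero, cons_val_one]
  module

theorem act0 (t : K) (w : Fin 2 → K) : mat (xe 0 t) *ᵥ emb2 w =
    emb2 ![w 0, w 1 + t * w 0] := by
  simp only [emb2, mulVec_add, mulVec_smul,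
    col_some (r := 0) (by norm_num) (s := two 0) (u := two 1) (by decide +kernel),
    col_none (r := 0) (by norm_num) (s := two 1) (by decide +kernel)]
  simp only [cons_val_zero, cons_val_one]
  module

/-- A representative of the reflection at a root. -/
def nn {K : Type*} [Field K] (r r' : ℕ) : chevF4.group K := xe r 1 * xe r' 1 * xe r 1

/-- The cross-section of the subsystem `C₃`. -/
def cross {K : Type*} [Field K] (a b c : K) : chevF4.group K :=
  xe 33 a * nn 33 14 * (xe 27 b * nn 27 20) * (xe 25 c * nn 25 22)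

/-- The cross-section of the subsystem `A₁`. -/
def cross1 {K : Type*} [Field K] (T : K) : chevF4.group K := xe 47 T * nn 47 0

theorem three_eq : (3 : K) = 1 := by linear_combination (CharTwo.two_eq_zero (R := K))

theorem nn33 (w : Fin 6 → K) : mat (nn (K := K) 33 14) *ᵥ emb6 w =
    emb6 ![w 1, w 0, w 2, w 3, w 5, w 4] := by
  simp only [nn, map_mul, ← mulVec_mulVec, act33, act14]
  simp only [cons_val_zero, cons_val_one, cons_val, one_mul]
  congr 1
  funext i
  fin_cases i <;> simp <;> ring_nf <;> simp [CharTwo.two_eq_zero, three_eq]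

theorem nn27 (w : Fin 6 → K) : mat (nn (K := K) 27 20) *ᵥ emb6 w =
    emb6 ![w 0, w 2, w 1, w 4, w 3, w 5] := by
  simp only [nn, map_mul, ← mulVec_mulVec, act27, act20]
  simp only [cons_val_zero, cons_val_one, cons_val, one_mul]
  congr 1
  funext i
  fin_cases i <;> simp <;> ring_nf <;> simp [CharTwo.two_eq_zero, three_eq]

theorem nn25 (w : Fin 6 → K) : mat (nn (K := K) 25 22) *ᵥ emb6 w =
    emb6 ![w 0, w 1, w 3, w 2, w 4, w 5] := by
  simp only [nn, map_mul, ← mulVec_mulVec, act25, act22]
  simp only [cons_val_zero, cons_val_one, cons_val, one_mul]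
  congr 1
  funext i
  fin_cases i <;> simp <;> ring_nf <;> simp [CharTwo.two_eq_zero, three_eq]

theorem cross_act (a b c : K) (w : Fin 6 → K) : mat (cross a b c) *ᵥ emb6 w =
    emb6 ![w 3, w 0 + a * w 3, w 1 + b * w 3, w 4, w 5, w 2 + c * w 3 + b * w 4 + a * w 5] := by
  rw [cross, map_mul, map_mul, map_mul, map_mul, map_mul]
  simp only [← mulVec_mulVec]
  rw [nn25, act25, nn27, act27, nn33, act33]
  simp only [cons_val_zero, cons_val_one, cons_val]

theorem cross1_act (T : K) (w : Fin 2 → K) : mat (cross1 T) *ᵥ emb2 w =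
    emb2 ![w 1 + T * w 0, w 0] := by
  simp only [cross1, nn, map_mul, ← mulVec_mulVec, act47, act0]
  simp only [cons_val_zero, cons_val_one, one_mul]
  congr 1
  funext i
  fin_cases i <;> simp <;> ring_nf <;> simp [CharTwo.two_eq_zero, three_eq]

omit [CharP K 2] in
theorem orderOf_dvd_of_eigen {g : chevF4.group K} {v : chevF4.Idx → K} {ω : K}
    (h : mat g *ᵥ v = ω • v) (hv : v ≠ 0) : orderOf ω ∣ orderOf g := by
  have hpow : ∀ k : ℕ, mat g ^ k *ᵥ v = ω ^ k • v := fun k => by
    induction k with
    | zero => simp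
    | succ k ih => rw [pow_succ', ← mulVec_mulVec, ih, mulVec_smul, h, smul_smul, pow_succ]
  have := hpow (orderOf g)
  rw [← map_pow, pow_orderOf_eq_one, map_one, one_mulVec] at this
  refine orderOf_dvd_of_pow_eq_one ?_
  by_contra hne
  refine hv (funext fun i => ?_)
  have e := congrFun this i
  rw [Pi.smul_apply, smul_eq_mul] at e
  have : (ω ^ orderOf g - 1) * v i = 0 := by linear_combination -e
  exact (mul_eq_zero.mp this).resolve_left (sub_ne_zero.mpr hne)

theorem cross_order {a b c ω : K} (hω : ω ≠ 0)
    (h : ω ^ 6 + a * ω ^ 5 + b * ω ^ 4 + c * ω ^ 3 + b * ω ^ 2 + a * ω + 1 = 0) :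
    orderOf ω ∣ orderOf (cross a b c) := by
  set w : Fin 6 → K := ![ω ^ 2, ω + a * ω ^ 2, 1 + a * ω + b * ω ^ 2, ω ^ 3, ω ^ 4, ω ^ 5]
  refine orderOf_dvd_of_eigen (v := emb6 w) ?_ fun e => ?_
  · rw [cross_act, emb6, emb6]
    simp only [w, cons_val_zero, cons_val_one, cons_val]
    have e5 : 1 + a * ω + b * ω ^ 2 + c * ω ^ 3 + b * ω ^ 4 + a * ω ^ 5 = ω * ω ^ 5 := by
      linear_combination h - CharTwo.add_self_eq_zero (ω ^ 6)
    rw [e5]
    module
  · have := congrFun e (Sum.inr (six 3))
    simp [emb6, ev, six, w, hω] at this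

theorem cross1_order {T ω : K} (h : ω ^ 2 + T * ω + 1 = 0) :
    orderOf ω ∣ orderOf (cross1 T) := by
  refine orderOf_dvd_of_eigen (v := emb2 ![ω, 1]) ?_ fun e => ?_
  · rw [cross1_act, emb2, emb2]
    simp only [cons_val_zero, cons_val_one]
    have e2 : 1 + T * ω = ω * ω := by linear_combination h - CharTwo.add_self_eq_zero (ω ^ 2)
    rw [e2]
    module
  · have := congrFun e (Sum.inr (two 1))
    simp [emb2, ev, two] at this

theorem comm_check : ∀ r ∈ ([47, 0] : List ℕ), ∀ s ∈ ([33, 14, 27, 20, 25, 22] : List ℕ),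
    F4Data.tab.chkCommute 2 r s = true := by decide +kernel

/-- The two cross-sections commute. -/
theorem commute_cross {r : ℕ} (hr : r ∈ ([47, 0] : List ℕ)) (u a b c : K) :
    Commute (xe r u) (cross a b c) := by
  have h2 : ((2 : ℕ) : K) = 0 := CharP.cast_eq_zero K 2
  have hx : ∀ s ∈ ([33, 14, 27, 20, 25, 22] : List ℕ), ∀ v : K, Commute (xe r u) (xe s v) :=
    fun s hs v => Subtype.ext (good_F4.x_commute h2 (comm_check r hr s hs) u v).eq
  have hn : ∀ s ∈ ([33, 14, 27, 20, 25, 22] : List ℕ), ∀ s' ∈ ([33, 14, 27, 20, 25, 22] : List ℕ),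
      Commute (xe r u) (nn (K := K) s s') := fun s hs s' hs' =>
    ((hx s hs 1).mul_right (hx s' hs' 1)).mul_right (hx s hs 1)
  exact (((hx 33 (by simp) a).mul_right (hn 33 (by simp) 14 (by simp))).mul_right
    ((hx 27 (by simp) b).mul_right (hn 27 (by simp) 20 (by simp)))).mul_right
    ((hx 25 (by simp) c).mul_right (hn 25 (by simp) 22 (by simp)))

end CfsgLib.Chev.F4Graph
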