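import Cfsg.Agent.Chev.F4Graph.Check
import Cfsg.Agent.Chev.F4Sections
import Cfsg.Agent.Chev.HomocyclicSylow
import Cfsg.Agent.Chev.EllipticData
import Mathlib.RingTheory.Polynomial.Cyclotomic.Eval

/-!
Pairs of primes that are not adjacent in the prime graph of F₄(q).
-/

set_option autoImplicit false
set_option linter.style.haveILetI false

namespace CfsgLib.Chev.F4Graph

open Cfsg.Lie Tab Polynomial

section Weyl

variable {K : Type*} [Field K]

/-- What moving a torus element by a word means for the roots. -/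
theorem chi_of_fusion (L : List (Fin chevF4.rank)) {c d : Fin chevF4.rank → Kˣ}
    (h : good_F4.full.nw K L * F4Data.tab.hT K c = F4Data.tab.hT K d * good_F4.full.nw K L)
    (v : Fin chevF4.nroots) :
    F4Data.tab.chi (F := K) (good_F4.full.pw L v).val d = F4Data.tab.chi (F := K) v.val c := by
  obtain ⟨kk, hk⟩ := good_F4.rootAct_nw (F := K) L
  set w := good_F4.full.pw L v
  have e1 := (hk v).2.2.2
  have e2 : good_F4.full.x w.val ((kk v : K) * ((F4Data.tab.chi (F := K) v.val c : K) * 1)) =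
      good_F4.full.x w.val ((F4Data.tab.chi (F := K) w.val d : K) * ((kk v : K) * 1)) := by
    rw [← e1, ← good_F4.full.hT_conj v.isLt, ← good_F4.full.hT_conj w.isLt, ← e1]
    calc _ = (good_F4.full.nw K L * F4Data.tab.hT K c) * good_F4.full.x v.val 1 *
          (good_F4.full.nw K L * F4Data.tab.hT K c)⁻¹ := by group
      _ = _ := by rw [h]; group
  have e3 := good_F4.x_inj w.isLt e2
  refine Units.ext (mul_left_cancel₀ (kk v).ne_zero ?_)
  rw [mul_one, mul_one, mul_comm (F4Data.tab.chi (F := K) w.val d : K)] at e3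
  exact e3.symm

/-- Two exponents that differ at the order. -/
theorem eq_one_of_pow_eq {G : Type*} [Group G] {z : G} {r A B : ℕ} [Fact r.Prime] (hr : z ^ r = 1)
    (h : z ^ A = z ^ B) (hne : (A : ZMod r) ≠ (B : ZMod r)) : z = 1 := by
  by_contra hz
  refine hne ((ZMod.natCast_eq_natCast_iff _ _ _).mpr ?_)
  rw [← orderOf_eq_prime hr hz]
  exact pow_eq_pow_iff_modEq.mp h

theorem iter_val {L : List (Fin chevF4.rank)} {M : List ℕ} (hlt : ∀ i ∈ M, i < chevF4.rank)
    (hval : ∀ m v, ((good_F4.full.pw L ^ m) v).val = F4Data.tab.iterT M m v.val) (m : ℕ)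
    (j : Fin chevF4.rank) :
    iterTbl F4Check.tbl M m (chevF4.simple j.val) =
      ((good_F4.full.pw L ^ m) (good_F4.full.simp' j)).val := by
  rw [hval, (Tab.iterTbl_eq F4Check.tbl_ok hlt m _ (good_F4.full.simple_lt j.isLt)).1]
  rfl

/-- The multiplicative orders of `q` allowed for an element moved by `q` under a Weyl element. -/
theorem weyl_orders (L : List (Fin chevF4.rank)) :
    ∃ E : Finset ℕ, (3 ∉ E ∨ 4 ∉ E) ∧ (3 ∉ E ∨ 6 ∉ E) ∧ (4 ∉ E ∨ 6 ∉ E) ∧
      ∀ (r q : ℕ) [Fact r.Prime], 2 < r → ∀ c : Fin chevF4.rank → Kˣ, c ^ r = 1 →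
        F4Data.tab.hT K c ≠ 1 →
        (∀ v : Fin chevF4.nroots, F4Data.tab.chi (F := K) (good_F4.full.pw L v).val c ^ q =
          F4Data.tab.chi (F := K) v.val c) →
        orderOf (q : ZMod r) ∈ ({3, 4, 6} : Finset ℕ) → orderOf (q : ZMod r) ∈ E := by
  obtain ⟨M, hM, e⟩ := good_F4.exists_mem_wordsOf F4Check.chain (List.range chevF4.rank)
    (fun j hj => List.mem_range.mp hj) F4Check.chain_ok _ (good_F4.pw_mem_full L)
  have h1 := List.all_eq_true.mp F4Check.powers_ok _ hM
  have h2 := List.all_eq_true.mp rel_ok _ hM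
  simp only [F4Check.chkPowers, F4Check.fixesSimple, F4Check.negatesSimple, Bool.and_eq_true,
    Bool.or_eq_true, List.all_eq_true, Nat.blt_eq, List.mem_range, Nat.beq_eq] at h1
  simp only [chkRel, F4Check.fixesSimple, relA, relB, Bool.or_eq_true, List.all_eq_true,
    List.mem_range, decide_eq_true_eq] at h2
  obtain ⟨hlt, h1⟩ := h1
  set σ := good_F4.full.pw L with hσ
  have hit : ∀ (m : ℕ) (j : Fin chevF4.rank),
      iterTbl F4Check.tbl (M.map Fin.val) m (chevF4.simple j.val) =
        ((σ ^ m) (good_F4.full.simp' j)).val := fun m j =>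
    iter_val hlt (fun m v => by show ((σ ^ m) v).val = _; rw [← e]; exact good_F4.pw_pow_apply M m v) m j
  have r4 : ∀ j : Fin chevF4.rank, j.val < 4 := fun j => j.isLt
  -- the characters along the orbits
  have step : ∀ {r q : ℕ} {c : Fin chevF4.rank → Kˣ},
      (∀ v, F4Data.tab.chi (F := K) (σ v).val c ^ q = F4Data.tab.chi (F := K) v.val c) →
      ∀ (m : ℕ) v, F4Data.tab.chi (F := K) ((σ ^ m) v).val c ^ q ^ m =
        F4Data.tab.chi (F := K) v.val c := by
    intro r q c hc m
    induction m with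
    | zero => intro v; simp
    | succ m ih =>
      intro v
      rw [pow_succ, pow_succ, Equiv.Perm.mul_apply, pow_mul, ih, hc]
  -- all characters are trivial
  have fin : ∀ {c : Fin chevF4.rank → Kˣ},
      (∀ j : Fin chevF4.rank, F4Data.tab.chi (F := K) (good_F4.full.simp' j).val c = 1) →
      F4Data.tab.hT K c = 1 := fun h =>
    (good_F4.full.hT_eq_one_iff _).mpr fun j hj => h ⟨j, hj⟩
  have main : ∀ {r q : ℕ} [Fact r.Prime] {c : Fin chevF4.rank → Kˣ}, c ^ r = 1 →
      F4Data.tab.hT K c ≠ 1 →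
      (∀ v, F4Data.tab.chi (F := K) (σ v).val c ^ q = F4Data.tab.chi (F := K) v.val c) →
      (((∀ j, (σ ^ 8) (good_F4.full.simp' j) = good_F4.full.simp' j) → (q : ZMod r) ^ 8 = 1) ∧
       ((∀ j, (σ ^ 6) (good_F4.full.simp' j) = good_F4.full.simp' j) → (q : ZMod r) ^ 6 = 1) ∧
       ((∀ j, (σ ^ 6) (good_F4.full.simp' j) = negF (good_F4.full.simp' j)) →
          (q : ZMod r) ^ 6 + 1 = 0) ∧
       ((∀ (j i : Fin chevF4.rank), F4Data.tab.cart i ((σ ^ 4) (good_F4.full.simp' j)).val +
          F4Data.tab.cart i ((σ ^ 3) (good_F4.full.simp' j)).val =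
            F4Data.tab.cart i ((σ ^ 1) (good_F4.full.simp' j)).val +
              F4Data.tab.cart i (good_F4.full.simp' j).val) →
          (1 : ZMod r) + (q : ZMod r) = (q : ZMod r) ^ 3 + (q : ZMod r) ^ 4) ∧
       ((∀ (j i : Fin chevF4.rank), F4Data.tab.cart i ((σ ^ 4) (good_F4.full.simp' j)).val +
          F4Data.tab.cart i ((σ ^ 1) (good_F4.full.simp' j)).val =
            F4Data.tab.cart i ((σ ^ 3) (good_F4.full.simp' j)).val +
              F4Data.tab.cart i (good_F4.full.simp' j).val) →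
          (1 : ZMod r) + (q : ZMod r) ^ 3 = (q : ZMod r) + (q : ZMod r) ^ 4)) := by
    intro r q _ c hcr hc1 hc
    have hzr : ∀ v : ℕ, F4Data.tab.chi (F := K) v c ^ r = 1 := fun v => by
      rw [← map_pow, hcr, map_one]
    have st := step (r := r) hc
    refine ⟨fun h => ?_, fun h => ?_, fun h => ?_, fun h => ?_, fun h => ?_⟩
    · by_contra hne
      refine hc1 (fin fun j => eq_one_of_pow_eq (r := r) (A := q ^ 8) (B := 1) (hzr _) ?_
        (by rwa [Nat.cast_pow, Nat.cast_one]))
      have := st 8 (good_F4.full.simp' j)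
      rw [h j] at this
      rw [this, pow_one]
    · by_contra hne
      refine hc1 (fin fun j => eq_one_of_pow_eq (r := r) (A := q ^ 6) (B := 1) (hzr _) ?_
        (by rwa [Nat.cast_pow, Nat.cast_one]))
      have := st 6 (good_F4.full.simp' j)
      rw [h j] at this
      rw [this, pow_one]
    · by_contra hne
      refine hc1 (fin fun j => eq_one_of_pow_eq (r := r) (A := q ^ 6 + 1) (B := 0) (hzr _) ?_
        (by rwa [Nat.cast_add, Nat.cast_pow, Nat.cast_one, Nat.cast_zero]))
      have := st 6 (good_F4.full.simp' j)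
      rw [h j, show (negF (good_F4.full.simp' j)).val = negR chevF4 (good_F4.full.simp' j).val from
        rfl, good_F4.chi_negR (good_F4.full.simp' j).isLt, inv_pow, inv_eq_iff_mul_eq_one] at this
      rw [pow_succ, pow_zero, this]
    · by_contra hne
      refine hc1 (fin fun j => ?_)
      set v := good_F4.full.simp' j
      have hz : F4Data.tab.chi (F := K) ((σ ^ 4) v).val c = 1 := by
        refine eq_one_of_pow_eq (r := r) (A := 1 + q) (B := q ^ 3 + q ^ 4) (hzr _) ?_
          (by simpa using hne)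
        have e3 := st 1 ((σ ^ 3) v)
        have e1 := st 3 ((σ ^ 1) v)
        have e0 := st 4 v
        rw [← Equiv.Perm.mul_apply, ← pow_add] at e3 e1
        rw [pow_one] at e3
        rw [pow_add, pow_one, pow_add, e3, e1, e0]
        simp only [Tab.chi, MonoidHom.coe_mk, OneHom.coe_mk, ← Finset.prod_mul_distrib,
          ← _root_.zpow_add]
        exact Finset.prod_congr rfl fun i _ => by rw [h j i]
      rw [← st 4 v, hz, one_pow]
    · by_contra hne
      refine hc1 (fin fun j => ?_)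
      set v := good_F4.full.simp' j
      have hz : F4Data.tab.chi (F := K) ((σ ^ 4) v).val c = 1 := by
        refine eq_one_of_pow_eq (r := r) (A := 1 + q ^ 3) (B := q + q ^ 4) (hzr _) ?_
          (by simpa using hne)
        have e3 := st 1 ((σ ^ 3) v)
        have e1 := st 3 ((σ ^ 1) v)
        have e0 := st 4 v
        rw [← Equiv.Perm.mul_apply, ← pow_add] at e3 e1
        rw [pow_one] at e3
        rw [pow_add, pow_one, pow_add, e3, e1, e0]
        simp only [Tab.chi, MonoidHom.coe_mk, OneHom.coe_mk, ← Finset.prod_mul_distrib,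
          ← _root_.zpow_add]
        exact Finset.prod_congr rfl fun i _ => by rw [h j i]
      rw [← st 4 v, hz, one_pow]
  -- the four cases
  have facts : ∀ {r : ℕ} [Fact r.Prime] (a : ZMod r), 2 < r →
      ((orderOf a = 3 ∨ orderOf a = 6) → a ^ 8 ≠ 1 ∧ a ^ 6 + 1 ≠ 0) ∧
      (orderOf a = 4 → a ^ 6 ≠ 1) ∧
      (orderOf a = 6 → (1 : ZMod r) + a ≠ a ^ 3 + a ^ 4) ∧
      (orderOf a = 3 → (1 : ZMod r) + a ^ 3 ≠ a + a ^ 4) := by
    intro r _ a hr
    have h2 : (2 : ZMod r) ≠ 0 := by
      intro h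
      have := (CharP.cast_eq_zero_iff (ZMod r) r 2).mp (by exact_mod_cast h)
      exact absurd (Nat.le_of_dvd two_pos this) (by omega)
    have hp : a ^ orderOf a = 1 := pow_orderOf_eq_one a
    have hnot : ∀ m, 0 < m → m < orderOf a → a ^ m ≠ 1 := fun m h1 h2 =>
      pow_ne_one_of_lt_orderOf h1.ne' h2
    refine ⟨fun h => ?_, fun h => ?_, fun h => ?_, fun h => ?_⟩
    · have h6 : a ^ 6 = 1 := orderOf_dvd_iff_pow_eq_one.mp (by rcases h with h | h <;> rw [h] <;> norm_num)
      refine ⟨fun h8 => ?_, fun e => h2 ?_⟩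
      · refine hnot 2 two_pos (by omega) ?_
        rw [← h8, show 8 = 6 + 2 from rfl, pow_add, h6, one_mul]
      · rw [h6] at e; rw [← e]; norm_num
    · intro h6
      rw [h] at hp
      refine hnot 2 two_pos (by omega) ?_
      rw [← h6, show 6 = 4 + 2 from rfl, pow_add, hp, one_mul]
    · intro e
      have h3 := hnot 3 (by norm_num) (by omega)
      have h2' := hnot 2 two_pos (by omega)
      have h' : (a ^ 3 - 1) * (a + 1) = 0 := by linear_combination -e
      rcases mul_eq_zero.mp h' with h' | h'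
      · exact h3 (sub_eq_zero.mp h')
      · exact h2' (by linear_combination (a - 1) * h')
    · intro e
      rw [h] at hp
      have h1 := hnot 1 one_pos (by omega)
      have h' : 2 * (1 - a) = 0 := by linear_combination e + (a - 1) * hp
      exact h1 (by rw [pow_one, (sub_eq_zero.mp ((mul_eq_zero.mp h').resolve_left h2))])
  have hf : ∀ {m : ℕ}, (∀ j, j < 4 →
      iterTbl F4Check.tbl (M.map Fin.val) m (chevF4.simple j) = chevF4.simple j) →
      ∀ j, (σ ^ m) (good_F4.full.simp' j) = good_F4.full.simp' j := fun {m} h j =>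
    Fin.ext ((hit m j).symm.trans (h j.val (r4 j)))
  rcases h1 with (h1 | h1) | h1
  · refine ⟨{4}, by decide, by decide, by decide, fun r q _ hr c hcr hc1 hc hq => ?_⟩
    simp only [Finset.mem_insert, Finset.mem_singleton] at hq ⊢
    have := (main hcr hc1 hc).1 (hf h1)
    rcases hq with hq | hq | hq
    · exact absurd this ((facts _ hr).1 (Or.inl hq)).1
    · exact hq
    · exact absurd this ((facts _ hr).1 (Or.inr hq)).1
  · have h6 := hf h1
    rcases h2 with (h2 | h2) | h2
    · exfalso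
      simp only [Bool.not_eq_true'] at h2
      have : ((List.range 4).all fun j => Nat.beq (iterTbl F4Check.tbl (M.map Fin.val) 6
          (chevF4.simple j)) (chevF4.simple j)) = true := by
        simp only [List.all_eq_true, List.mem_range, Nat.beq_eq]
        exact h1
      rw [this] at h2
      exact Bool.noConfusion h2
    · refine ⟨{3}, by decide, by decide, by decide, fun r q _ hr c hcr hc1 hc hq => ?_⟩
      simp only [Finset.mem_insert, Finset.mem_singleton] at hq ⊢
      obtain ⟨-, m6, -, mA, -⟩ := main hcr hc1 hc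
      rcases hq with hq | hq | hq
      · exact hq
      · exact absurd (m6 h6) ((facts _ hr).2.1 hq)
      · refine absurd (mA fun j i => ?_) ((facts _ hr).2.2.1 hq)
        have := h2 j.val (r4 j) i.val (r4 i)
        rw [hit, hit, hit] at this
        exact this
    · refine ⟨{6}, by decide, by decide, by decide, fun r q _ hr c hcr hc1 hc hq => ?_⟩
      simp only [Finset.mem_insert, Finset.mem_singleton] at hq ⊢
      obtain ⟨-, m6, -, -, mB⟩ := main hcr hc1 hc
      rcases hq with hq | hq | hq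
      · refine absurd (mB fun j i => ?_) ((facts _ hr).2.2.2 hq)
        have := h2 j.val (r4 j) i.val (r4 i)
        rw [hit, hit, hit] at this
        exact this
      · exact absurd (m6 h6) ((facts _ hr).2.1 hq)
      · exact hq
  · refine ⟨{4}, by decide, by decide, by decide, fun r q _ hr c hcr hc1 hc hq => ?_⟩
    simp only [Finset.mem_insert, Finset.mem_singleton] at hq ⊢
    have := (main hcr hc1 hc).2.2.1 fun j => Fin.ext ((hit 6 j).symm.trans (h1 j.val (r4 j)))
    rcases hq with hq | hq | hq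
    · exact absurd this ((facts _ hr).1 (Or.inl hq)).2
    · exact hq
    · exact absurd this ((facts _ hr).1 (Or.inr hq)).2

end Weyl

variable {F : Type*} [Field F] [Fintype F]

theorem cof_ne {ℓ : ℕ} [Fact ℓ.Prime] (h : 5 ≤ ℓ) : F4Sections.cofactor (1 : ZMod ℓ) ≠ 0 := by
  have hℓ : ℓ.Prime := Fact.out
  have e : F4Sections.cofactor (1 : ZMod ℓ) = ((2 ^ 7 * 3 ^ 2 : ℕ) : ZMod ℓ) := by
    simp only [F4Sections.cofactor]
    push_cast
    norm_num
  rw [e, Ne, CharP.cast_eq_zero_iff (ZMod ℓ) ℓ]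
  intro hd
  rcases hℓ.dvd_mul.mp hd with hd | hd
  · exact absurd (Nat.le_of_dvd (by norm_num) (hℓ.dvd_of_dvd_pow hd)) (by omega)
  · exact absurd (Nat.le_of_dvd (by norm_num) (hℓ.dvd_of_dvd_pow hd)) (by omega)

theorem five_le_of_order {r a : ℕ} [Fact r.Prime] (h : orderOf (a : ZMod r) ∈ ({3, 4, 6} : Finset ℕ)) :
    5 ≤ r := by
  have hr : r.Prime := Fact.out
  simp only [Finset.mem_insert, Finset.mem_singleton] at h
  have ha : (a : ZMod r) ≠ 0 := fun e => by
    rw [e, orderOf_eq_zero (fun ho => by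
      obtain ⟨k, hk, e⟩ := isOfFinOrder_iff_pow_eq_one.mp ho
      rw [zero_pow hk.ne'] at e
      exact zero_ne_one e)] at h
    omega
  have := Nat.le_of_dvd (by have := hr.two_le; omega) (ZMod.orderOf_dvd_card_sub_one ha)
  rcases h with h | h | h <;> rw [h] at this
  · rcases Nat.lt_or_ge r 5 with h5 | h5
    · obtain rfl : r = 4 := by omega
      exact absurd hr (by norm_num)
    · exact h5
  · omega
  · omega

/-- Commuting elements of prime orders with `q` of two different orders among 3, 4, 6. -/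
theorem no_commute {r s : ℕ} [Fact r.Prime] [Fact s.Prime]
    (hk : orderOf ((Fintype.card F : ℕ) : ZMod r) ∈ ({3, 4, 6} : Finset ℕ))
    (hl : orderOf ((Fintype.card F : ℕ) : ZMod s) ∈ ({3, 4, 6} : Finset ℕ))
    (hne : orderOf ((Fintype.card F : ℕ) : ZMod r) ≠ orderOf ((Fintype.card F : ℕ) : ZMod s))
    {x y : chevF4.group F} (hx : orderOf x = r) (hy : orderOf y = s) (hxy : Commute x y) : False := by
  classical
  set q := Fintype.card F with hq
  obtain ⟨p, hp⟩ := CharP.exists F
  haveI := Fact.mk (CharP.char_is_prime F p)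
  obtain ⟨n, -, hn⟩ := FiniteField.card F p
  obtain ⟨K, hKf, hKt, f, hK⟩ := Tab.Good.exists_field_ext (F := F) 12
  haveI := charP_of_injective_ringHom f.injective p
  set σK : K →+* K := iterateFrobenius K p n with hσdef
  have hσ : ∀ a, σK a = a ^ q := fun a => by rw [hσdef, iterateFrobenius_def, hq, hn]
  have hσf : σK.comp f = f := RingHom.ext fun a => by
    rw [RingHom.comp_apply, hσ, ← map_pow, hq, FiniteField.pow_card]
  let φ : chevF4.group F →* chevF4.group K :=
    ((glMap chevF4 f).comp (chevF4.group F).subtype).codRestrict _ fun z => good_F4.glMap_group f z.2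
  have hφ : Function.Injective φ := fun a b e =>
    Subtype.ext (glMap_injective f (congrArg Subtype.val e))
  let S : chevF4.group K →* chevF4.group K :=
    ((glMap chevF4 σK).comp (chevF4.group K).subtype).codRestrict _ fun z =>
      good_F4.glMap_group σK z.2
  have hSφ : ∀ z, S (φ z) = φ z := fun z => Subtype.ext (by
    show glMap chevF4 σK (glMap chevF4 f (z : GL chevF4.Idx F)) = glMap chevF4 f z
    refine Units.ext (Matrix.ext fun a b => ?_)
    rw [glMap_coe, glMap_coe]
    exact congrFun (congrArg DFunLike.coe hσf) _)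
  have hr5 := five_le_of_order hk
  have hs5 := five_le_of_order hl
  have hfac : ∀ (ℓ : ℕ) [Fact ℓ.Prime], 5 ≤ ℓ → orderOf (q : ZMod ℓ) ∣ 12 →
      (Nat.card (chevF4.group K)).factorization ℓ ≤
        (Nat.card (good_F4.torusIn K)).factorization ℓ := by
    intro ℓ _ h5 h12
    rw [good_F4.card_torusIn]
    refine F4Sections.factorization_le (cof_ne h5) ?_
    rw [hK, Nat.cast_pow]
    exact orderOf_dvd_iff_pow_eq_one.mp h12
  have hdvd : ∀ {e : ℕ}, e ∈ ({3, 4, 6} : Finset ℕ) → e ∣ 12 := by decide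
  obtain ⟨g, hg⟩ := CfsgLib.ToralSection.exists_conj_le_pair (ℓ := r) (m := s)
    (good_F4.torusIn K)
    (fun a ha b hb => Subtype.ext (good_F4.diag_commute (Subgroup.mem_subgroupOf.mp ha)
      (Subgroup.mem_subgroupOf.mp hb)).eq)
    (hfac r hr5 (hdvd hk)) (hfac s hs5 (hdvd hl))
    (Q := Subgroup.zpowers (φ x)) (R := Subgroup.zpowers (φ y))
    (IsPGroup.of_card_dvd_pow (n := 1) (by
      rw [Nat.card_zpowers, pow_one, orderOf_injective φ hφ, hx]))
    (IsPGroup.of_card_dvd_pow (n := 1) (by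
      rw [Nat.card_zpowers, pow_one, orderOf_injective φ hφ, hy]))
    (fun a ha b hb => by
      obtain ⟨i, rfl⟩ := Subgroup.mem_zpowers_iff.mp ha
      obtain ⟨j, rfl⟩ := Subgroup.mem_zpowers_iff.mp hb
      exact ((hxy.map φ).symm.zpow_zpow j i))
  obtain ⟨L, hL⟩ := good_F4.fusion_word (K := K) (S g * g⁻¹).2
  obtain ⟨E, h34, h36, h46, hE⟩ := weyl_orders (K := K) L
  have key : ∀ (ℓ : ℕ) [Fact ℓ.Prime] (z : chevF4.group F), 5 ≤ ℓ → orderOf z = ℓ →
      g * φ z * g⁻¹ ∈ good_F4.torusIn K → orderOf (q : ZMod ℓ) ∈ ({3, 4, 6} : Finset ℕ) →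
      orderOf (q : ZMod ℓ) ∈ E := by
    intro ℓ _ z h5 hz hmem he
    have hmem' := Subgroup.mem_subgroupOf.mp hmem
    rw [good_F4.full.diagonal_eq_range] at hmem'
    obtain ⟨c, hc⟩ := hmem'
    have hinj := good_F4.hT_injective (F := K) uni_F4
    have hcℓ : c ^ ℓ = 1 := hinj (by
      rw [map_pow, map_one, hc, ← SubmonoidClass.coe_pow, conj_pow, ← hz, ← map_pow,
        pow_orderOf_eq_one, map_one, mul_one, mul_inv_cancel]
      rfl)
    have hc1 : F4Data.tab.hT K c ≠ 1 := fun e => by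
      rw [hc] at e
      have : g * φ z * g⁻¹ = 1 := Subtype.ext e
      rw [conj_eq_one_iff, map_eq_one_iff φ hφ] at this
      rw [this, orderOf_one] at hz
      omega
    have hSc : ((S g * φ z * (S g)⁻¹ : chevF4.group K) : GL chevF4.Idx K) =
        F4Data.tab.hT K (c ^ q) := by
      rw [← hSφ z, ← map_inv, ← map_mul, ← map_mul]
      show glMap chevF4 σK ((g * φ z * g⁻¹ : chevF4.group K) : GL chevF4.Idx K) = _
      rw [← hc, good_F4.glMap_hT]
      refine congrArg _ (funext fun i => Units.ext ?_)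
      rw [Units.coe_map, Pi.pow_apply, Units.val_pow_eq_pow_val]
      exact hσ _
    have hm := hL (c ^ q) c (by
      rw [← hSc, hc, ← Subgroup.coe_mul, ← Subgroup.coe_mul]
      congr 1
      group)
    refine hE ℓ q (by omega) c hcℓ hc1 (fun v => ?_) he
    rw [← map_pow]
    exact chi_of_fusion L hm v
  have a1 := key r x hr5 hx (hg _ (Or.inl (Subgroup.mem_zpowers _))) hk
  have a2 := key s y hs5 hy (hg _ (Or.inr (Subgroup.mem_zpowers _))) hl
  simp only [Finset.mem_insert, Finset.mem_singleton] at hk hl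
  rcases hk with hk | hk | hk <;> rcases hl with hl | hl | hl <;> rw [hk] at a1 hne <;>
    rw [hl] at a2 hne <;> first | exact hne rfl | simp_all

theorem cyclotomic_twelve_eq : cyclotomic 12 ℤ = Polynomial.X ^ 4 - Polynomial.X ^ 2 + 1 := by
  rw [show (12 : ℕ) = 6 * 2 by norm_num, ← cyclotomic_expand_eq_cyclotomic Nat.prime_two (by norm_num),
    cyclotomic_six]
  simp only [map_add, map_sub, map_pow, expand_X, map_one]
  ring

theorem cyclotomic_eight_eq : cyclotomic 8 ℤ = Polynomial.X ^ 4 + 1 := by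
  rw [show (8 : ℕ) = 2 ^ (2 + 1) by norm_num, cyclotomic_prime_pow_eq_geom_sum Nat.prime_two]
  simp [Finset.sum_range_succ]
  ring

/-- The value of the cyclotomic polynomial for the elliptic degrees has small cofactor. -/
theorem phi_facts {l : ℕ} (hl : l = 8 ∨ l = 12) {q : ℕ} (hqe : Even q) :
    ¬ 2 ∣ ((cyclotomic l ℤ).eval (q : ℤ)).natAbs ∧ (l = 12 → ¬ 3 ∣ ((cyclotomic l ℤ).eval (q : ℤ)).natAbs) := by
  have key : ∀ ℓ : ℕ, ((((cyclotomic l ℤ).eval (q : ℤ)) : ℤ) : ZMod ℓ) ≠ 0 →
      ¬ ℓ ∣ ((cyclotomic l ℤ).eval (q : ℤ)).natAbs := fun ℓ h hd =>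
    h ((ZMod.intCast_zmod_eq_zero_iff_dvd _ _).mpr (Int.natCast_dvd.mpr hd))
  obtain ⟨k, hk⟩ := hqe
  refine ⟨key 2 ?_, fun e => key 3 ?_⟩
  · have h0 : (q : ZMod 2) = 0 := by
      rw [hk, Nat.cast_add]; exact CharTwo.add_self_eq_zero _
    rcases hl with rfl | rfl
    · simp [cyclotomic_eight_eq, h0]
    · simp [cyclotomic_twelve_eq, h0]
  · subst e
    simp only [cyclotomic_twelve_eq, eval_add, eval_sub, eval_pow, eval_X, eval_one, Int.cast_add,
      Int.cast_sub, Int.cast_pow, Int.cast_natCast, Int.cast_one]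
    generalize (q : ZMod 3) = a
    revert a
    decide

/-- The centraliser of an element of order prime with `q` of order 8 or 12. -/
theorem cent_elliptic {s l : ℕ} [Fact s.Prime] (hl : l = 8 ∨ l = 12)
    (hqe : Even (Fintype.card F)) (hs : orderOf ((Fintype.card F : ℕ) : ZMod s) = l)
    {y : chevF4.group F} (hy : orderOf y = s) :
    IsCyclic ↥(Subgroup.centralizer ({y} : Set ↥(chevF4.group F))) ∧
      Nat.card ↥(Subgroup.centralizer ({y} : Set ↥(chevF4.group F))) =
        ((cyclotomic l ℤ).eval (Fintype.card F : ℤ)).natAbs := by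
  have hs' : s.Prime := Fact.out
  have hq0 : ((Fintype.card F : ℕ) : ZMod s) ≠ 0 := fun e => by
    rw [e, orderOf_eq_zero (fun ho => by
      obtain ⟨k, hk, e⟩ := isOfFinOrder_iff_pow_eq_one.mp ho
      rw [zero_pow hk.ne'] at e
      exact zero_ne_one e)] at hs
    omega
  have hls : l ∣ s - 1 := hs ▸ ZMod.orderOf_dvd_card_sub_one hq0
  have hs9 : 4 ≤ s := by
    have := Nat.le_of_dvd (by have := hs'.two_le; omega) hls
    omega
  obtain ⟨f2, f3⟩ := phi_facts hl hqe
  refine (good_F4.centralizer_elliptic InvolData.scF4 (d := l) (r := s) (by omega) ?_ hs ?_ ?_ y hy).1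
  · rcases hl with rfl | rfl <;> decide +kernel
  · rw [good_F4.card_weyl F4Data.levels_ok,
      show (F4Data.levels.map fun l => l.2.2.length).prod = 2 ^ 7 * 3 ^ 2 by decide +kernel]
    intro hd
    rcases hs'.dvd_mul.mp hd with hd | hd
    · exact absurd (Nat.le_of_dvd (by norm_num) (hs'.dvd_of_dvd_pow hd)) (by omega)
    · exact absurd (Nat.le_of_dvd (by norm_num) (hs'.dvd_of_dvd_pow hd)) (by omega)
  · intro ℓ hℓ hd h2
    have h1 := (dvd_pow_self ℓ two_ne_zero).trans h2
    rcases hl with rfl | rfl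
    · rw [(Nat.prime_dvd_prime_iff_eq hℓ Nat.prime_two).mp
        (hℓ.dvd_of_dvd_pow (show ℓ ∣ 2 ^ 3 from hd))] at h1
      exact f2 h1
    · rcases hℓ.dvd_mul.mp (show ℓ ∣ 2 ^ 2 * 3 from hd) with hd | hd
      · rw [(Nat.prime_dvd_prime_iff_eq hℓ Nat.prime_two).mp (hℓ.dvd_of_dvd_pow hd)] at h1
        exact f2 h1
      · rw [(Nat.prime_dvd_prime_iff_eq hℓ Nat.prime_three).mp hd] at h1
        exact f3 rfl h1

/-- The primes dividing the value. -/
theorem dvd_phi_iff {r l : ℕ} [Fact r.Prime] (hl : l = 8 ∨ l = 12) {q : ℕ} (hqe : Even q) :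
    r ∣ ((cyclotomic l ℤ).eval (q : ℤ)).natAbs ↔ orderOf (q : ZMod r) = l ∧ r ≠ 2 := by
  have hr : r.Prime := Fact.out
  obtain ⟨f2, f3⟩ := phi_facts hl hqe
  have hcast : r ∣ ((cyclotomic l ℤ).eval (q : ℤ)).natAbs ↔
      (cyclotomic l (ZMod r)).IsRoot (q : ZMod r) := by
    rw [IsRoot.def, ← map_cyclotomic l (Int.castRingHom (ZMod r)), eval_map,
      show (q : ZMod r) = Int.castRingHom (ZMod r) (q : ℤ) by simp, eval₂_at_apply, eq_intCast,
      ZMod.intCast_zmod_eq_zero_iff_dvd, Int.natCast_dvd]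
  constructor
  · intro h
    have hr2 : r ≠ 2 := fun e => f2 (e ▸ h)
    refine ⟨?_, hr2⟩
    haveI : NeZero (l : ZMod r) := ⟨fun e => by
      have hd := (CharP.cast_eq_zero_iff (ZMod r) r l).mp e
      rcases hl with rfl | rfl
      · exact hr2 ((Nat.prime_dvd_prime_iff_eq hr Nat.prime_two).mp
          (hr.dvd_of_dvd_pow (show r ∣ 2 ^ 3 from hd)))
      · rcases hr.dvd_mul.mp (show r ∣ 2 ^ 2 * 3 from hd) with hd | hd
        · exact hr2 ((Nat.prime_dvd_prime_iff_eq hr Nat.prime_two).mp (hr.dvd_of_dvd_pow hd))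
        · exact f3 rfl (((Nat.prime_dvd_prime_iff_eq hr Nat.prime_three).mp hd) ▸ h)⟩
    exact (isRoot_cyclotomic_iff.mp (hcast.mp h)).eq_orderOf.symm
  · rintro ⟨h, -⟩
    exact hcast.mpr ((h ▸ IsPrimitiveRoot.orderOf (q : ZMod r)).isRoot_cyclotomic (by omega))

/-- An element commuting with one for `Φ₈` or `Φ₁₂` has order with the same primitive degree. -/
theorem isolated {r s l : ℕ} [Fact r.Prime] [Fact s.Prime] (hl : l = 8 ∨ l = 12)
    (hqe : Even (Fintype.card F)) (hs : orderOf ((Fintype.card F : ℕ) : ZMod s) = l)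
    {x y : chevF4.group F} (hx : orderOf x = r) (hy : orderOf y = s) (hxy : Commute x y) :
    orderOf ((Fintype.card F : ℕ) : ZMod r) = l ∧ r ≠ 2 := by
  refine (dvd_phi_iff hl hqe).mp ?_
  rw [← (cent_elliptic hl hqe hs hy).2, ← hx]
  exact Subgroup.orderOf_dvd_natCard _ (Subgroup.mem_centralizer_singleton_iff.mpr hxy.eq)

/-- Two primes with `q` of the same elliptic degree. -/
theorem exists_elliptic_pair {r s l : ℕ} [Fact r.Prime] [Fact s.Prime] (hl : l = 8 ∨ l = 12)
    (hqe : Even (Fintype.card F)) (hrs : r ≠ s)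
    (hr : orderOf ((Fintype.card F : ℕ) : ZMod r) = l)
    (hs : orderOf ((Fintype.card F : ℕ) : ZMod s) = l)
    (hrG : r ∣ Nat.card (chevF4.group F)) : ∃ z : chevF4.group F, orderOf z = r * s := by
  obtain ⟨x, hx⟩ := exists_prime_orderOf_dvd_card' r hrG
  obtain ⟨hc, hcard⟩ := cent_elliptic hl hqe hr hx
  obtain ⟨z, hz⟩ := IsCyclic.exists_generator
    (α := ↥(Subgroup.centralizer ({x} : Set ↥(chevF4.group F))))
  have ho : orderOf (z : chevF4.group F) =
      ((cyclotomic l ℤ).eval (Fintype.card F : ℤ)).natAbs := by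
    rw [Subgroup.orderOf_coe, orderOf_eq_card_of_forall_mem_zpowers hz, hcard]
  have hl2 : l ≠ 0 := by omega
  have two : ∀ {a : ℕ} [Fact a.Prime], orderOf ((Fintype.card F : ℕ) : ZMod a) = l → a ≠ 2 := by
    intro a _ h e
    subst e
    obtain ⟨k, hk⟩ := hqe
    rw [hk, Nat.cast_add, CharTwo.add_self_eq_zero, orderOf_eq_zero (fun ho => by
      obtain ⟨k, hk, e⟩ := isOfFinOrder_iff_pow_eq_one.mp ho
      rw [zero_pow hk.ne'] at e
      exact zero_ne_one e)] at h
    exact hl2 h.symm
  refine ⟨_, orderOf_pow_orderOf_div (orderOf_pos (z : chevF4.group F)).ne' (n := r * s) ?_⟩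
  rw [ho]
  exact ((Nat.coprime_primes Fact.out Fact.out).mpr hrs).mul_dvd_of_dvd_of_dvd
    ((dvd_phi_iff hl hqe).mpr ⟨hr, two hr⟩) ((dvd_phi_iff hl hqe).mpr ⟨hs, two hs⟩)

end CfsgLib.Chev.F4Graph
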