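import Cfsg.Agent.Chev.F4Graph.Cross
import Mathlib.FieldTheory.Finite.Basic
import Mathlib.RingTheory.IntegralDomain

/-!
Commuting elements of F₄(2ⁿ) of orders dividing `q ± 1` and `q³ ± 1`, `q² + 1`.
-/

set_option autoImplicit false
set_option linter.style.haveILetI false

namespace CfsgLib.Chev.F4Graph

open Cfsg.Lie Matrix Tab

variable {F : Type*} [Field F] [Fintype F]

/-- Elements fixed by the `q`th power come from the small field. -/
theorem fix_mem {K : Type*} [Field K] (f : F →+* K) {x : K} (hx : x ^ Fintype.card F = x) :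
    ∃ y, f y = x := by
  classical
  set q := Fintype.card F
  have hq1 : 1 < q := Fintype.one_lt_card
  have hne : ((Polynomial.X : Polynomial K) ^ q - Polynomial.X) ≠ 0 :=
    FiniteField.X_pow_card_sub_X_ne_zero K hq1
  have hsub : Finset.univ.image f ⊆
      ((Polynomial.X : Polynomial K) ^ q - Polynomial.X).roots.toFinset := by
    intro b hb
    obtain ⟨a, -, rfl⟩ := Finset.mem_image.mp hb
    rw [Multiset.mem_toFinset, Polynomial.mem_roots hne]
    simp [← map_pow, q, FiniteField.pow_card]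
  have hcard : ((Polynomial.X : Polynomial K) ^ q - Polynomial.X).roots.toFinset.card ≤
      (Finset.univ.image f).card := by
    rw [Finset.card_image_of_injective _ f.injective, Finset.card_univ]
    exact le_trans (Multiset.toFinset_card_le _) (le_trans (Polynomial.card_roots' _)
      (le_of_eq (FiniteField.X_pow_card_sub_X_natDegree_eq K hq1)))
  have hmem : x ∈ ((Polynomial.X : Polynomial K) ^ q - Polynomial.X).roots.toFinset := by
    rw [Multiset.mem_toFinset, Polynomial.mem_roots hne]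
    simp [hx]
  rw [← Finset.eq_of_subset_of_card_le hsub hcard] at hmem
  obtain ⟨y, -, hy⟩ := Finset.mem_image.mp hmem
  exact ⟨y, hy⟩

/-- The group over a larger field. -/
def ext {K : Type*} [Field K] (f : F →+* K) : chevF4.group F →* chevF4.group K :=
  ((glMap chevF4 f).comp (chevF4.group F).subtype).codRestrict _ fun z =>
    good_F4.glMap_group f z.2

omit [Fintype F] in
theorem ext_xe {K : Type*} [Field K] (f : F →+* K) (r : ℕ) (t : F) :
    ext f (xe r t) = xe r (f t) :=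
  Subtype.ext (good_F4.glMap_x f r t)

omit [Fintype F] in
theorem ext_cross {K : Type*} [Field K] (f : F →+* K) (a b c : F) :
    ext f (cross a b c) = cross (f a) (f b) (f c) := by
  simp only [cross, nn, map_mul, ext_xe, map_one]

omit [Fintype F] in
theorem ext_cross1 {K : Type*} [Field K] (f : F →+* K) (T : F) :
    ext f (cross1 T) = cross1 (f T) := by
  simp only [cross1, nn, map_mul, ext_xe, map_one]

variable [CharP F 2]

/-- An element of given order in the twelfth degree extension. -/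
theorem exists_root_of_unity {N : ℕ} (hN : N ∣ Fintype.card F ^ 12 - 1) :
    ∃ (K : Type) (_ : Field K) (_ : CharP K 2) (_ : F →+* K) (ω : K), ω ≠ 0 ∧ orderOf ω = N := by
  obtain ⟨K, hKf, hKt, f, hK⟩ := Tab.Good.exists_field_ext (F := F) 12
  obtain ⟨γ, hγ⟩ := IsCyclic.exists_generator (α := Kˣ)
  have ho : orderOf γ = Fintype.card F ^ 12 - 1 := by
    rw [orderOf_eq_card_of_forall_mem_zpowers hγ, Nat.card_units, Nat.card_eq_fintype_card, hK]
  refine ⟨K, hKf, charP_of_injective_ringHom f.injective 2, f,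
    ((γ ^ (orderOf γ / N) : Kˣ) : K), Units.ne_zero _, ?_⟩
  rw [orderOf_units, orderOf_pow_orderOf_div (orderOf_pos γ).ne' (ho ▸ hN)]

/-- An element of the subsystem `A₁`. -/
theorem exists_in_A1 {N : ℕ} (hN : N ∣ Fintype.card F - 1 ∨ N ∣ Fintype.card F + 1) :
    ∃ z : chevF4.group F, orderOf z = N ∧ ∀ a b c : F, Commute z (cross a b c) := by
  obtain ⟨n, -, hn⟩ := FiniteField.card F 2
  set q := Fintype.card F with hq
  have h1 : 1 ≤ q := Fintype.card_pos
  have hdvd : N ∣ q ^ 12 - 1 := by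
    have e1 : q - 1 ∣ q ^ 12 - 1 := Nat.sub_one_dvd_pow_sub_one q 12
    have e2 : q + 1 ∣ q ^ 12 - 1 := by
      refine dvd_trans ?_ (show q ^ 2 - 1 ∣ q ^ 12 - 1 from by
        rw [show q ^ 12 = (q ^ 2) ^ 6 by ring]; exact Nat.sub_one_dvd_pow_sub_one (q ^ 2) 6)
      exact ⟨q - 1, by simpa using Nat.sq_sub_sq q 1⟩
    exact hN.elim (fun h => h.trans e1) fun h => h.trans e2
  obtain ⟨K, _, _, f, ω, hω, ho⟩ := exists_root_of_unity (F := F) hdvd
  obtain ⟨T, hT⟩ := fix_mem f (x := ω + ω⁻¹) (by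
    rw [← hq, hn, add_pow_char_pow, inv_pow, ← hn]
    rcases hN with h | h
    · have e : ω ^ q = ω := by
        conv_lhs => rw [show q = (q - 1) + 1 by omega]
        rw [pow_succ, orderOf_dvd_iff_pow_eq_one.mp (ho ▸ h), one_mul]
      rw [e]
    · have e : ω ^ q = ω⁻¹ := eq_inv_of_mul_eq_one_left (by
        rw [← pow_succ]; exact orderOf_dvd_iff_pow_eq_one.mp (ho ▸ h))
      rw [e, inv_inv, add_comm])
  have hd : N ∣ orderOf (cross1 T) := by
    rw [← ho]
    refine (cross1_order (T := f T) ?_).trans (ext_cross1 f T ▸ orderOf_map_dvd (ext f) (cross1 T))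
    rw [hT]
    field_simp
    linear_combination (CharTwo.add_self_eq_zero (ω ^ 2)) + (CharTwo.add_self_eq_zero (1 : K))
  refine ⟨cross1 T ^ (orderOf (cross1 T) / N), orderOf_pow_orderOf_div (orderOf_pos _).ne' hd,
    fun a b c => Commute.pow_left ?_ _⟩
  exact (commute_cross (by simp) T a b c).mul_left
    (((commute_cross (by simp) 1 a b c).mul_left (commute_cross (by simp) 1 a b c)).mul_left
      (commute_cross (by simp) 1 a b c))

/-- An element of the subsystem `C₃`. -/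
theorem exists_in_C3 {N : ℕ} (hN : N ∣ Fintype.card F ^ 3 - 1 ∨ N ∣ Fintype.card F ^ 3 + 1 ∨
      N ∣ Fintype.card F ^ 2 + 1) :
    ∃ (y : chevF4.group F) (a b c : F) (k : ℕ), orderOf y = N ∧ y = cross a b c ^ k := by
  obtain ⟨n, -, hn⟩ := FiniteField.card F 2
  set q := Fintype.card F with hq
  have h1 : 1 ≤ q := Fintype.card_pos
  have hq3 : 1 ≤ q ^ 3 := Nat.one_le_pow _ _ h1
  have hdvd : N ∣ q ^ 12 - 1 := by
    have e1 : ∀ a b : ℕ, q ^ a - 1 ∣ q ^ (a * b) - 1 := fun a b => by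
      rw [pow_mul]; exact Nat.sub_one_dvd_pow_sub_one _ _
    have e2 : ∀ a : ℕ, q ^ a + 1 ∣ q ^ (a * 2) - 1 := fun a =>
      ⟨q ^ a - 1, by rw [pow_mul]; simpa using Nat.sq_sub_sq (q ^ a) 1⟩
    rcases hN with h | h | h
    · exact h.trans (e1 3 4)
    · exact h.trans ((e2 3).trans (e1 6 2))
    · exact h.trans ((e2 2).trans (e1 4 3))
  obtain ⟨K, _, _, f, ω, hω, ho⟩ := exists_root_of_unity (F := F) hdvd
  have frob : ∀ x y : K, (x + y) ^ q = x ^ q + y ^ q := fun x y => by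
    rw [hn, add_pow_char_pow]
  set t : K := ω + ω⁻¹ with ht
  have hpow : ∀ m, t ^ q ^ m = ω ^ q ^ m + (ω ^ q ^ m)⁻¹ := fun m => by
    rw [ht, hn, ← pow_mul, add_pow_char_pow, inv_pow]
  obtain ⟨u, v, hc⟩ : ∃ u v : K,
      (u = t ^ q ∧ v = u ^ q ∧ v ^ q = t) ∨ (u = t ^ q ∧ u ^ q = t ∧ v = 0) := by
    by_cases h3 : N ∣ q ^ 3 - 1 ∨ N ∣ q ^ 3 + 1
    · refine ⟨t ^ q, (t ^ q) ^ q, Or.inl ⟨rfl, rfl, ?_⟩⟩
      rw [← pow_mul, ← pow_mul, show q * (q * q) = q ^ 3 by ring, hpow]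
      rcases h3 with h | h
      · have e : ω ^ q ^ 3 = ω := by
          conv_lhs => rw [show q ^ 3 = (q ^ 3 - 1) + 1 by omega]
          rw [pow_succ, orderOf_dvd_iff_pow_eq_one.mp (ho ▸ h), one_mul]
        rw [e]
      · have e : ω ^ q ^ 3 = ω⁻¹ := eq_inv_of_mul_eq_one_left (by
          rw [← pow_succ]; exact orderOf_dvd_iff_pow_eq_one.mp (ho ▸ h))
        rw [e, inv_inv, ht, add_comm]
    · refine ⟨t ^ q, 0, Or.inr ⟨rfl, ?_, rfl⟩⟩
      rw [← pow_mul, show q * q = q ^ 2 by ring, hpow]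
      have h : N ∣ q ^ 2 + 1 := by tauto
      have e : ω ^ q ^ 2 = ω⁻¹ := eq_inv_of_mul_eq_one_left (by
        rw [← pow_succ]; exact orderOf_dvd_iff_pow_eq_one.mp (ho ▸ h))
      rw [e, inv_inv, ht, add_comm]
  have hq0 : (0 : K) ^ q = 0 := zero_pow (by omega)
  obtain ⟨a, ha⟩ := fix_mem f (x := t + u + v) (by
    rw [frob, frob]
    rcases hc with ⟨e1, e2, e3⟩ | ⟨e1, e2, e3⟩
    · rw [← e1, ← e2, e3]; ring
    · rw [← e1, e2, e3, hq0]; ring)
  obtain ⟨b, hb⟩ := fix_mem f (x := t * u + t * v + u * v) (by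
    rw [frob, frob, mul_pow, mul_pow, mul_pow]
    rcases hc with ⟨e1, e2, e3⟩ | ⟨e1, e2, e3⟩
    · rw [← e1, ← e2, e3]; ring
    · rw [← e1, e2, e3, hq0]; ring)
  obtain ⟨c, hc'⟩ := fix_mem f (x := t * u * v) (by
    rw [mul_pow, mul_pow]
    rcases hc with ⟨e1, e2, e3⟩ | ⟨e1, e2, e3⟩
    · rw [← e1, ← e2, e3]; ring
    · rw [← e1, e2, e3, hq0]; ring)
  have hd : N ∣ orderOf (cross a (b + 1) c) := by
    rw [← ho]
    refine (cross_order (a := f a) (b := f (b + 1)) (c := f c) hω ?_).trans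
      (ext_cross f a (b + 1) c ▸ orderOf_map_dvd (ext f) (cross a (b + 1) c))
    rw [map_add, map_one, ha, hb, hc']
    have hroot : t ^ 3 + (t + u + v) * t ^ 2 + (t * u + t * v + u * v) * t + t * u * v = 0 := by
      linear_combination (t ^ 3 + t ^ 2 * u + t ^ 2 * v + t * u * v) * CharTwo.two_eq_zero (R := K)
    have hω' : t * ω = ω ^ 2 + 1 := by rw [ht]; field_simp
    have h3 : (ω ^ 2 + 1) ^ 3 + (t + u + v) * ω * (ω ^ 2 + 1) ^ 2 +
        (t * u + t * v + u * v) * ω ^ 2 * (ω ^ 2 + 1) + t * u * v * ω ^ 3 = 0 := by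
      rw [← hω']
      linear_combination ω ^ 3 * hroot
    linear_combination h3 - (ω ^ 4 + ω ^ 2 + (t + u + v) * ω ^ 3) * CharTwo.two_eq_zero (R := K)
  exact ⟨_, a, b + 1, c, _, orderOf_pow_orderOf_div (orderOf_pos _).ne' hd, rfl⟩

/-- Commuting elements in the two subsystems. -/
theorem exists_product {r s : ℕ} (hco : Nat.Coprime r s)
    (hr : r ∣ Fintype.card F - 1 ∨ r ∣ Fintype.card F + 1)
    (hs : s ∣ Fintype.card F ^ 3 - 1 ∨ s ∣ Fintype.card F ^ 3 + 1 ∨ s ∣ Fintype.card F ^ 2 + 1) :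
    ∃ z : chevF4.group F, orderOf z = r * s := by
  obtain ⟨z, hz, hcomm⟩ := exists_in_A1 hr
  obtain ⟨y, a, b, c, k, hy, rfl⟩ := exists_in_C3 hs
  exact ⟨z * cross a b c ^ k, by
    rw [((hcomm a b c).pow_right k).orderOf_mul_eq_mul_orderOf_of_coprime (by rw [hz, hy]; exact hco),
      hz, hy]⟩

/-- An involution with an element of the subsystem `C₃`. -/
theorem exists_double {s : ℕ} (hs2 : Nat.Coprime 2 s)
    (hs : s ∣ Fintype.card F ^ 3 - 1 ∨ s ∣ Fintype.card F ^ 3 + 1 ∨ s ∣ Fintype.card F ^ 2 + 1) :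
    ∃ z : chevF4.group F, orderOf z = 2 * s := by
  obtain ⟨y, a, b, c, k, hy, rfl⟩ := exists_in_C3 hs
  haveI : Fact (Nat.Prime 2) := ⟨Nat.prime_two⟩
  have h2 : orderOf (xe 47 (1 : F)) = 2 := by
    refine orderOf_eq_prime (Subtype.ext ?_) fun e => one_ne_zero (α := F) ?_
    · show (good_F4.full.x 47 (1 : F)) ^ 2 = 1
      rw [sq, good_F4.full.x_add, CharTwo.add_self_eq_zero, good_F4.full.x_zero]
    · exact good_F4.x_eq_one (r := 47) (by decide) (congrArg Subtype.val e)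
  exact ⟨xe 47 (1 : F) * cross a b c ^ k, by
    rw [((commute_cross (by simp) 1 a b c).pow_right k).orderOf_mul_eq_mul_orderOf_of_coprime
      (by rw [h2, hy]; exact hs2), h2, hy]⟩

end CfsgLib.Chev.F4Graph
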